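import Groth.Agent.LeadBC.GenBC.Rank
import Groth.Agent.LeadBC.Vanishing
import Groth.Prelude.Def_PerfAux

/-!
# Local constancy of the Euler characteristic of the fibres
-/

set_option autoImplicit false
set_option linter.style.haveILetI false
set_option linter.unusedSectionVars false

universe u

open CategoryTheory CategoryTheory.Limits AlgebraicGeometry Opposite TopologicalSpace
open scoped TensorProduct

namespace Groth.Agent.H28Bc

open Groth.Agent.H06FlatCx

section Algebra

variable {A : Type u} [CommRing A] (P : ChainComplex (ModuleCat.{u} A) ℤ)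

theorem fibDim_eq_zero (M : Type u) [AddCommGroup M] [Module A M] [Subsingleton M] (x : PrimeSpectrum A) :
    fibDim (A := A) M x = 0 := by
  haveI : Subsingleton (x.asIdeal.ResidueField ⊗[A] M) := subsingleton_of_forall_eq 0 fun z => by
    induction z using TensorProduct.induction_on with
    | zero => rfl
    | add a b ha hb => rw [ha, hb, add_zero]
    | tmul s m => rw [Subsingleton.elim m 0, TensorProduct.tmul_zero]
  exact Module.finrank_zero_of_subsingleton

/-- The cokernel dimension in degree `p`. -/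
noncomputable def cDim (p : ℤ) (x : PrimeSpectrum A) : ℕ :=
  fibDim (A := A) (P.X p ⧸ LinearMap.range (P.d (p + 1) p).hom) x

variable (hP : ∀ i, Module.Finite A (P.X i) ∧ Module.Free A (P.X i))

include hP in
theorem dRank_add_cDim (p : ℤ) (x : PrimeSpectrum A) :
    CohIII.dRank P p x + fibDim (A := A) (P.X (p - 1)) x = cDim P p x + cDim P (p - 1) x := by
  haveI := (hP p).1
  haveI := (hP (p - 1)).1
  have h := dRank_add P (down_prev p) (down_next p) x
  rw [h]
  congr 1
  show _ = fibDim (A := A) (P.X (p - 1) ⧸ LinearMap.range (P.d (p - 1 + 1) (p - 1)).hom) x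
  rw [sub_add_cancel]

include hP in
theorem isLocallyConstant_fibDim (p : ℤ) : IsLocallyConstant (fibDim (A := A) (P.X p)) := by
  haveI := (hP p).1
  haveI := (hP p).2
  haveI : Module.FinitePresentation A (P.X p) := Module.finitePresentation_of_projective A _
  rw [show fibDim (A := A) (P.X p) = Module.rankAtStalk (R := A) (P.X p) from
    funext (fibDim_eq_rankAtStalk (P.X p))]
  exact Module.isLocallyConstant_rankAtStalk

include hP in
/-- The cokernel dimension below a degree with vanishing rank is locally constant. -/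
theorem isLocallyConstant_cDim {p : ℤ} (h : ∀ x, CohIII.dRank P p x = 0) :
    IsLocallyConstant (cDim P (p - 1)) := by
  haveI := (hP p).1
  haveI := (hP (p - 1)).1
  refine (IsLocallyConstant.iff_eventually_eq _).2 fun x => ?_
  have h0 := ((isLocallyConstant_fibDim P hP (p - 1)).isOpen_fiber (fibDim (A := A) (P.X (p - 1)) x)).mem_nhds rfl
  have h1 := (isOpen_fibDim_le (P.X p ⧸ LinearMap.range (P.d (p + 1) p).hom) (cDim P p x)).mem_nhds (le_refl (cDim P p x))
  have h2 := (isOpen_fibDim_le (P.X (p - 1) ⧸ LinearMap.range (P.d (p - 1 + 1) (p - 1)).hom) (cDim P (p - 1) x)).mem_nhds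
    (le_refl (cDim P (p - 1) x))
  filter_upwards [h0, h1, h2] with y e0 e1 e2
  change fibDim (P.X (p - 1)) y = fibDim (P.X (p - 1)) x at e0
  change cDim P p y ≤ cDim P p x at e1
  change cDim P (p - 1) y ≤ cDim P (p - 1) x at e2
  have a1 := dRank_add_cDim P hP p x
  have a2 := dRank_add_cDim P hP p y
  rw [h] at a1 a2
  omega

variable (hneg : ∀ i, i < 0 → IsZero (P.X i))

include hP hneg in
theorem cDim_eq_zero {p : ℤ} (hp : p < 0) (x : PrimeSpectrum A) : cDim P p x = 0 := by
  haveI : Subsingleton (P.X p) := ModuleCat.subsingleton_of_isZero (hneg p hp)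
  haveI : Subsingleton (P.X p ⧸ LinearMap.range (P.d (p + 1) p).hom) :=
    (Submodule.Quotient.mk_surjective _).subsingleton
  exact fibDim_eq_zero _ x

include hP hneg in
theorem dRank_eq_zero_of_neg {p : ℤ} (hp : p < 0) (x : PrimeSpectrum A) : CohIII.dRank P p x = 0 := by
  have h := dRank_add_cDim P hP p x
  rw [cDim_eq_zero P hP hneg hp, cDim_eq_zero P hP hneg (by omega : p - 1 < 0)] at h
  omega

include hP hneg in
/-- Partial alternating sums of ranks. -/
theorem isLocallyConstant_sum (q : ℕ) :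
    IsLocallyConstant fun x => (∑ p ∈ Finset.range (q + 1), (-1 : ℤ) ^ p * (CohIII.dRank P (p : ℤ) x : ℤ)) -
      (-1 : ℤ) ^ q * (cDim P (q : ℤ) x : ℤ) := by
  induction q with
  | zero =>
    refine (IsLocallyConstant.iff_eventually_eq _).2 fun x => Filter.Eventually.of_forall fun y => ?_
    have hz : ∀ z, fibDim (A := A) (P.X ((0 : ℤ) - 1)) z = 0 := fun z => by
      haveI : Subsingleton (P.X ((0 : ℤ) - 1)) := ModuleCat.subsingleton_of_isZero (hneg _ (by omega))
      exact fibDim_eq_zero _ z
    have a1 := dRank_add_cDim P hP 0 x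
    have a2 := dRank_add_cDim P hP 0 y
    rw [hz, cDim_eq_zero P hP hneg (by omega : (0 : ℤ) - 1 < 0)] at a1 a2
    simp only [zero_add, Finset.sum_range_one, Nat.cast_zero, pow_zero, one_mul]
    omega
  | succ q ih =>
    refine (IsLocallyConstant.iff_eventually_eq _).2 fun x => ?_
    filter_upwards [ih.eventually_eq x, (isLocallyConstant_fibDim P hP (q : ℤ)).eventually_eq x] with y e1 e2
    have a1 := dRank_add_cDim P hP ((q : ℤ) + 1) x
    have a2 := dRank_add_cDim P hP ((q : ℤ) + 1) y
    rw [add_sub_cancel_right] at a1 a2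
    have b1 : (CohIII.dRank P ((q : ℤ) + 1) x : ℤ) = cDim P ((q : ℤ) + 1) x + cDim P (q : ℤ) x - fibDim (A := A) (P.X (q : ℤ)) x := by
      omega
    have b2 : (CohIII.dRank P ((q : ℤ) + 1) y : ℤ) = cDim P ((q : ℤ) + 1) y + cDim P (q : ℤ) y - fibDim (A := A) (P.X (q : ℤ)) y := by
      omega
    rw [Finset.sum_range_succ, Finset.sum_range_succ _ (q + 1)]
    push_cast
    rw [b1, b2, e2, pow_succ]
    linear_combination e1

end Algebra

section Scheme

variable {X S : Scheme.{u}} (f : X ⟶ S) [IsProper f] [LocallyOfFinitePresentation f] (F : X.Modules)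

/-- The Euler characteristic of the fibres of a flat module of finite presentation is locally constant. -/
theorem isLocallyConstant_eulerChar [F.IsQuasicoherent] (hfp : CohB1.IsFP F) (hfl : FlatMod.IsFlatOver f F) :
    IsLocallyConstant (fun s : S => PerfAux.eulerChar f F s) := by
  refine (IsLocallyConstant.iff_eventually_eq _).2 fun s => ?_
  obtain ⟨V, hV, hsV, -⟩ := exists_isAffineOpen_mem_and_subset (U := (⊤ : S.Opens)) (x := s) trivial
  letI := LeadBC.preOver f hV
  obtain ⟨ι, hι, U, hU, ⟨m⟩⟩ := LeadBC.GenBC.exists_chart f hV F hfp hfl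
  have habove : ∀ p : ℤ, (m.N : ℤ) < p → ∀ x, CohIII.dRank m.P p x = 0 := by
    intro p hp x
    let K := x.asIdeal.ResidueField
    let M := ModuleCat.of Γ(S, V) K
    have h0 : IsZero ((LeadBC.KD U (F.restrict (f ⁻¹ᵁ V).ι) m.N (A := Γ(S, V))).X p) :=
      HomologicalComplex.isZero_extend_X _ _ p fun i hi => by rw [LeadBC.embN_f] at hi; omega
    have h1 : IsZero ((CohIII.tensorObj (LeadBC.KD U (F.restrict (f ⁻¹ᵁ V).ι) m.N (A := Γ(S, V))) M).X p) :=
      (MonoidalCategory.tensorRight M).map_isZero h0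
    haveI : Subsingleton (CohIII.T (LeadBC.KD U (F.restrict (f ⁻¹ᵁ V).ι) m.N (A := Γ(S, V))) p M) :=
      ModuleCat.subsingleton_of_isZero ((HomologicalComplex.exactAt_iff_isZero_homology _ _).1
        (ShortComplex.exact_of_isZero_X₂ _ h1))
    haveI : Subsingleton (CohIII.T m.P p M) := (m.qis p M).1.subsingleton
    haveI : Subsingleton (homQuot (baseChange_comp_zero K (d_comp_d m.P (p + 1) p (p - 1)))) := by
      obtain ⟨e, -⟩ := LeadBC.exists_homQuot_equiv (B := K) m.P (down_prev p) (down_next p)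
      exact e.toEquiv.subsingleton
    rw [CohIII.dRank, ← LeadBC.hqRank_eq m.P (down_prev p) (down_next p), LeadBC.hqRank]
    exact Module.finrank_zero_of_subsingleton
  have hc := isLocallyConstant_sum m.P m.finite_free m.isZero_neg m.N
  have hN : IsLocallyConstant (cDim m.P (m.N : ℤ)) := by
    have h := isLocallyConstant_cDim m.P m.finite_free (habove ((m.N : ℤ) + 1) (by omega))
    rwa [add_sub_cancel_right] at h
  have key : ∀ (y : S) (hy : y ∈ V), PerfAux.eulerChar f F y =
      (-1 : ℤ) ^ m.N * ∑ p ∈ Finset.range (m.N + 1),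
        (-1 : ℤ) ^ p * (CohIII.dRank m.P (p : ℤ) (hV.primeIdealOf ⟨y, hy⟩) : ℤ) := by
    intro y hy
    have hr : ∀ i : ℕ, PerfAux.betti f F y i = CohIII.dRank m.P ((m.N : ℤ) - i) (hV.primeIdealOf ⟨y, hy⟩) :=
      fun i => (LeadBC.GenBC.subsingleton_fiberH_iff f hV hU m hy i).2
    rw [PerfAux.eulerChar, finsum_eq_sum_of_support_subset (s := Finset.range (m.N + 1)) _ ?_]
    · rw [Finset.mul_sum, ← Finset.sum_range_reflect]
      refine Finset.sum_congr rfl fun p hp => ?_
      rw [Finset.mem_range] at hp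
      rw [hr, show (m.N : ℤ) - ((m.N + 1 - 1 - p : ℕ) : ℤ) = (p : ℤ) by omega, ← mul_assoc]
      congr 1
      rw [← pow_add]
      rw [neg_one_pow_eq_pow_mod_two, neg_one_pow_eq_pow_mod_two (n := m.N + p)]
      congr 1
      omega
    · intro i hi
      rw [Finset.coe_range, Set.mem_Iio]
      by_contra hiN
      refine hi ?_
      show (-1 : ℤ) ^ i * (PerfAux.betti f F y i : ℤ) = 0
      rw [hr, dRank_eq_zero_of_neg m.P m.finite_free m.isZero_neg (by omega), Nat.cast_zero, mul_zero]
  have hcont : Continuous fun y : V => hV.primeIdealOf y := hV.isoSpec.hom.continuous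
  have h1 := ((hc.comp_continuous hcont).eventually_eq ⟨s, hsV⟩).and
    ((hN.comp_continuous hcont).eventually_eq ⟨s, hsV⟩)
  rw [eventually_nhds_iff] at h1 ⊢
  obtain ⟨W, hW, hWo, hsW⟩ := h1
  refine ⟨Subtype.val '' W, ?_, V.isOpen.isOpenMap_subtype_val _ hWo, ⟨⟨s, hsV⟩, hsW, rfl⟩⟩
  rintro _ ⟨y, hy, rfl⟩
  obtain ⟨e1, e2⟩ := hW y hy
  simp only [Function.comp_apply] at e1 e2
  rw [key y.1 y.2, key s hsV]
  rw [e2] at e1
  congr 1
  linarith [e1]

end Scheme

end Groth.Agent.H28Bc
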