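import Groth.Agent.LeadBC.Chart
import Groth.Agent.H28Bc.EulerConst
import Groth.Prelude.Def_CurvBase

/-!
# Euler characteristics at field valued points of the base
-/

set_option autoImplicit false
set_option linter.style.haveILetI false
set_option linter.unusedSectionVars false

universe u

open CategoryTheory CategoryTheory.Limits AlgebraicGeometry Opposite TopologicalSpace

namespace Groth.Agent.H28Bc

/-- The Euler characteristic at a field valued point is that of the fibre. -/
theorem euler_eq_eulerChar {X Y : Scheme.{u}} (f : X ⟶ Y) [IsProper f] [IsLocallyNoetherian Y] (F : X.Modules)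
    (hF : Coh.IsCoh F) (hfl : FlatMod.IsFlatOver f F) {K : Type u} [Field K] {X' : Scheme.{u}}
    [X'.Over (Spec (CommRingCat.of K))] (g : X' ⟶ X) (t : Spec (CommRingCat.of K) ⟶ Y)
    (hsq : IsPullback g (X' ↘ Spec (CommRingCat.of K)) f t) {y : Y} (ht : ∀ s, t.base s = y) :
    Curv2.euler K X' ((Scheme.Modules.pullback g).obj F) = PerfAux.eulerChar f F y := by
  refine finsum_congr fun i => congrArg (fun k : ℕ => (-1 : ℤ) ^ i * (k : ℤ)) ?_
  haveI : F.IsQuasicoherent := hF.1
  obtain ⟨V, hV, hy, -⟩ := exists_isAffineOpen_mem_and_subset (U := (⊤ : Y.Opens)) (x := y) trivial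
  obtain ⟨ι, hι, U, hU, ⟨m⟩⟩ := LeadBC.exists_chart_model (f := f) (hV := hV) hF hfl
  exact (m.finrank_bc_chart hU (K := K) g t hsq hy ht _ (Iso.refl _) i).trans (m.fiberRank_chart hU hy i).symm

/-- The Euler characteristics at two field valued points of a local base agree. -/
theorem euler_eq_euler {R : Type u} [CommRing R] [IsLocalRing R] [IsNoetherianRing R] {X : Scheme.{u}}
    (f : X ⟶ Spec (CommRingCat.of R)) [IsProper f] (F : X.Modules) (hF : Coh.IsCoh F)
    (hfl : FlatMod.IsFlatOver f F) (hfp : CohB1.IsFP F)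
    {K K' : Type u} [Field K] [Field K'] {X' X'' : Scheme.{u}}
    [X'.Over (Spec (CommRingCat.of K))] [X''.Over (Spec (CommRingCat.of K'))]
    (g : X' ⟶ X) (t : Spec (CommRingCat.of K) ⟶ Spec (CommRingCat.of R))
    (hsq : IsPullback g (X' ↘ Spec (CommRingCat.of K)) f t)
    (g' : X'' ⟶ X) (t' : Spec (CommRingCat.of K') ⟶ Spec (CommRingCat.of R))
    (hsq' : IsPullback g' (X'' ↘ Spec (CommRingCat.of K')) f t') :
    Curv2.euler K X' ((Scheme.Modules.pullback g).obj F) = Curv2.euler K' X'' ((Scheme.Modules.pullback g').obj F) := by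
  haveI : F.IsQuasicoherent := hF.1
  haveI : LocallyOfFinitePresentation f := by
    rw [locallyOfFinitePresentation_iff]
    intro U hU V hV e
    haveI := IsLocallyNoetherian.component_noetherian (X := Spec (CommRingCat.of R)) ⟨U, hU⟩
    exact RingHom.FinitePresentation.of_finiteType.1 ((locallyOfFiniteType_iff f).1 inferInstance hU hV e)
  let s₀ : Spec (CommRingCat.of K) := ⟨(⊥ : Ideal K), inferInstance⟩
  let s₁ : Spec (CommRingCat.of K') := ⟨(⊥ : Ideal K'), inferInstance⟩
  rw [euler_eq_eulerChar f F hF hfl g t hsq (y := t.base s₀) (fun s => congrArg t.base (Subsingleton.elim s s₀)),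
    euler_eq_eulerChar f F hF hfl g' t' hsq' (y := t'.base s₁) (fun s => congrArg t'.base (Subsingleton.elim s s₁))]
  have hc := isLocallyConstant_eulerChar f F hfp hfl
  have key : ∀ y, PerfAux.eulerChar f F y = PerfAux.eulerChar f F (IsLocalRing.closedPoint R) := fun y =>
    (IsLocalRing.specializes_closedPoint y).mem_open (hc.isOpen_fiber (PerfAux.eulerChar f F (IsLocalRing.closedPoint R))) rfl
  rw [key (t.base s₀), key (t'.base s₁)]

end Groth.Agent.H28Bc
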